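import Mathlib.CategoryTheory.Abelian.Refinements
import Mathlib.CategoryTheory.Abelian.Exact
import Mathlib.Algebra.Homology.ShortComplex.ShortExact
import Mathlib.Tactic.Abel

/-!
# Objects presented by a class of objects

For a class `P` of objects of an abelian category which has the local lifting property with respect to
epimorphisms, cokernels, extensions and kernels of objects presented by `P` are presented by `P`.
-/

set_option autoImplicit false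
set_option linter.style.haveILetI false

universe v u

open CategoryTheory CategoryTheory.Limits

namespace Groth.Agent.H15Site.FinPres

variable {A : Type u} [Category.{v} A] [Abelian A] (P : A → Prop)

/-- Quotients of members of `P`. -/
def Gen (X : A) : Prop := ∃ (L : A) (p : L ⟶ X), P L ∧ Epi p

/-- Objects with a presentation by members of `P`. -/
def Pres (X : A) : Prop :=
  ∃ (R L : A) (r : R ⟶ L) (p : L ⟶ X) (w : r ≫ p = 0),
    P R ∧ P L ∧ Epi p ∧ (ShortComplex.mk r p w).Exact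

/-- Maps out of members of `P` lift along epimorphisms after a cover. -/
def Lift : Prop :=
  ∀ (L : A), P L → ∀ (X Y : A) (p : X ⟶ Y), Epi p → ∀ f : L ⟶ Y,
    ∃ (L' : A) (q : L' ⟶ L) (g : L' ⟶ X), P L' ∧ Epi q ∧ g ≫ p = q ≫ f

/-- Maps out of members of `P` lift along epimorphisms after a cover with finitely generated kernel. -/
def LiftPres : Prop :=
  ∀ (L : A), P L → ∀ (X Y : A) (p : X ⟶ Y), Epi p → ∀ f : L ⟶ Y,
    ∃ (N L' : A) (n : N ⟶ L') (q : L' ⟶ L) (g : L' ⟶ X) (w : n ≫ q = 0),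
      P N ∧ P L' ∧ Epi q ∧ (ShortComplex.mk n q w).Exact ∧ g ≫ p = q ≫ f

variable {P}

theorem LiftPres.lift (h : LiftPres P) : Lift P := fun L hL X Y p hp f => by
  obtain ⟨-, L', -, q, g, -, -, h1, h2, -, h3⟩ := h L hL X Y p hp f
  exact ⟨L', q, g, h1, h2, h3⟩

theorem Pres.gen {X : A} (h : Pres P X) : Gen P X := by
  obtain ⟨-, L, -, p, -, -, hL, hp, -⟩ := h
  exact ⟨L, p, hL, hp⟩

theorem pres_of_iso_cokernel {X R L : A} (r : R ⟶ L) (hR : P R) (hL : P L) (e : X ≅ cokernel r) :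
    Pres P X := by
  refine ⟨R, L, r, cokernel.π r ≫ e.inv, by simp, hR, hL, inferInstance, ?_⟩
  exact ShortComplex.exact_of_iso
    (ShortComplex.isoMk (Iso.refl _) (Iso.refl _) e.symm (by simp) (by simp) :
      ShortComplex.mk r (cokernel.π r) (cokernel.condition r) ≅ ShortComplex.mk r (cokernel.π r ≫ e.inv) (by simp))
    (ShortComplex.exact_cokernel r)

theorem Pres.exists_iso_cokernel {X : A} (h : Pres P X) :
    ∃ (R L : A) (r : R ⟶ L), P R ∧ P L ∧ Nonempty (X ≅ cokernel r) := by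
  obtain ⟨R, L, r, p, w, hR, hL, hp, hE⟩ := h
  haveI : Epi (ShortComplex.mk r p w).g := hp
  exact ⟨R, L, r, hR, hL, ⟨hE.gIsCokernel.coconePointUniqueUpToIso (colimit.isColimit (parallelPair r 0))⟩⟩

variable (hbp : ∀ L M : A, P L → P M → P (L ⊞ M))
include hbp

/-- A cokernel of a map from a generated object to a presented one is presented. -/
theorem pres_coker (hl : Lift P) {X Y Z : A} (a : X ⟶ Y) (c : Y ⟶ Z) (w : a ≫ c = 0) [Epi c]
    (hac : (ShortComplex.mk a c w).Exact) (hX : Gen P X) (hY : Pres P Y) : Pres P Z := by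
  obtain ⟨R, L, r, p, wr, hR, hL, hp, hE⟩ := hY
  obtain ⟨L₃, pX, hL₃, hpX⟩ := hX
  obtain ⟨L', q, g, hL', hq, hg⟩ := hl L₃ hL₃ L Y p hp (pX ≫ a)
  refine ⟨R ⊞ L', L, biprod.desc r g, p ≫ c, ?_, hbp _ _ hR hL', hL, epi_comp _ _, ?_⟩
  · apply biprod.hom_ext'
    · simp [reassoc_of% wr]
    · simp [reassoc_of% hg, w]
  · rw [ShortComplex.exact_iff_exact_up_to_refinements]
    intro W (x : W ⟶ L) (hx : x ≫ p ≫ c = 0)
    obtain ⟨W₁, π₁, hπ₁, (x₁ : W₁ ⟶ X), (h₁ : π₁ ≫ x ≫ p = x₁ ≫ a)⟩ :=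
      hac.exact_up_to_refinements (x ≫ p) (by simpa using hx)
    obtain ⟨W₂, π₂, hπ₂, l, h₂⟩ := surjective_up_to_refinements_of_epi (q ≫ pX) x₁
    obtain ⟨W₃, π₃, hπ₃, (r₀ : W₃ ⟶ R), (h₃ : π₃ ≫ (π₂ ≫ π₁ ≫ x - l ≫ g) = r₀ ≫ r)⟩ :=
      hE.exact_up_to_refinements (π₂ ≫ π₁ ≫ x - l ≫ g) (by
        show (π₂ ≫ π₁ ≫ x - l ≫ g) ≫ p = 0
        rw [Preadditive.sub_comp, Category.assoc, Category.assoc, Category.assoc, h₁, hg, reassoc_of% h₂,
          sub_self])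
    refine ⟨W₃, π₃ ≫ π₂ ≫ π₁, inferInstance, biprod.lift r₀ (π₃ ≫ l), ?_⟩
    show (π₃ ≫ π₂ ≫ π₁) ≫ x = biprod.lift r₀ (π₃ ≫ l) ≫ biprod.desc r g
    rw [biprod.lift_desc, ← h₃, Preadditive.comp_sub, Category.assoc, Category.assoc, Category.assoc]
    abel

/-- Composing a presentation with a cover. -/
theorem exists_comp (hl : Lift P) {N L' L R X : A} (n : N ⟶ L') (q : L' ⟶ L) (wn : n ≫ q = 0)
    (hn : (ShortComplex.mk n q wn).Exact) [Epi q] (r : R ⟶ L) (p : L ⟶ X) (wr : r ≫ p = 0)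
    (hr : (ShortComplex.mk r p wr).Exact) (hN : P N) (hR : P R) :
    ∃ (R' : A) (r' : R' ⟶ L') (w : r' ≫ q ≫ p = 0), P R' ∧ (ShortComplex.mk r' (q ≫ p) w).Exact := by
  obtain ⟨R₁, q₁, r₁, hR₁, hq₁, h⟩ := hl R hR L' L q inferInstance r
  refine ⟨N ⊞ R₁, biprod.desc n r₁, ?_, hbp _ _ hN hR₁, ?_⟩
  · apply biprod.hom_ext'
    · simp [reassoc_of% wn]
    · simp [reassoc_of% h, wr]
  · rw [ShortComplex.exact_iff_exact_up_to_refinements]
    intro W (x : W ⟶ L') (hx : x ≫ q ≫ p = 0)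
    obtain ⟨W₁, π₁, hπ₁, (r₀ : W₁ ⟶ R), (h₁ : π₁ ≫ x ≫ q = r₀ ≫ r)⟩ :=
      hr.exact_up_to_refinements (x ≫ q) (by simpa using hx)
    obtain ⟨W₂, π₂, hπ₂, s, h₂⟩ := surjective_up_to_refinements_of_epi q₁ r₀
    obtain ⟨W₃, π₃, hπ₃, (n₀ : W₃ ⟶ N), (h₃ : π₃ ≫ (π₂ ≫ π₁ ≫ x - s ≫ r₁) = n₀ ≫ n)⟩ :=
      hn.exact_up_to_refinements (π₂ ≫ π₁ ≫ x - s ≫ r₁) (by
        show (π₂ ≫ π₁ ≫ x - s ≫ r₁) ≫ q = 0
        rw [Preadditive.sub_comp, Category.assoc, Category.assoc, Category.assoc, h₁, h, reassoc_of% h₂,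
          sub_self])
    refine ⟨W₃, π₃ ≫ π₂ ≫ π₁, inferInstance, biprod.lift n₀ (π₃ ≫ s), ?_⟩
    show (π₃ ≫ π₂ ≫ π₁) ≫ x = biprod.lift n₀ (π₃ ≫ s) ≫ biprod.desc n r₁
    rw [biprod.lift_desc, ← h₃, Preadditive.comp_sub, Category.assoc, Category.assoc, Category.assoc]
    abel

/-- Extensions. -/
theorem pres_ext (hl : LiftPres P) (S : ShortComplex A) (hS : S.ShortExact) (h₁ : Pres P S.X₁)
    (h₃ : Pres P S.X₃) : Pres P S.X₂ := by
  haveI := hS.epi_g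
  haveI := hS.mono_f
  obtain ⟨R₁, L₁, r₁, p₁, w₁, hR₁, hL₁, hp₁, hE₁⟩ := h₁
  obtain ⟨R₃, L₃, r₃, p₃, w₃, hR₃, hL₃, hp₃, hE₃⟩ := h₃
  obtain ⟨N, L', n, q, g, wn, hN, hL', hq, hn, hg⟩ := hl L₃ hL₃ S.X₂ S.X₃ S.g inferInstance p₃
  obtain ⟨R, r, wR, hR, hr⟩ := exists_comp hbp hl.lift n q wn hn r₃ p₃ w₃ hE₃ hN hR₃
  have hrg : (r ≫ g) ≫ S.g = 0 := by rw [Category.assoc, hg, wR]
  obtain ⟨R', q', m, hR', hq', hm⟩ := hl.lift R hR L₁ S.X₁ p₁ hp₁ (hS.exact.lift (r ≫ g) hrg)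
  have hm' : m ≫ p₁ ≫ S.f = q' ≫ r ≫ g := by rw [reassoc_of% hm, ShortComplex.Exact.lift_f]
  refine ⟨R₁ ⊞ R', L₁ ⊞ L', biprod.desc (r₁ ≫ biprod.inl) (m ≫ biprod.inl - (q' ≫ r) ≫ biprod.inr),
    biprod.desc (p₁ ≫ S.f) g, ?_, hbp _ _ hR₁ hR', hbp _ _ hL₁ hL', ?_, ?_⟩
  · apply biprod.hom_ext'
    · simp [reassoc_of% w₁]
    · simp [hm']
  · rw [epi_iff_surjective_up_to_refinements]
    intro W y
    obtain ⟨W₁, π₁, hπ₁, l, h₁⟩ := surjective_up_to_refinements_of_epi (q ≫ p₃) (y ≫ S.g)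
    obtain ⟨W₂, π₂, hπ₂, (z : W₂ ⟶ S.X₁), (h₂ : π₂ ≫ (π₁ ≫ y - l ≫ g) = z ≫ S.f)⟩ :=
      hS.exact.exact_up_to_refinements (π₁ ≫ y - l ≫ g) (by
        rw [Preadditive.sub_comp, Category.assoc, Category.assoc, hg, ← h₁, sub_self])
    obtain ⟨W₃, π₃, hπ₃, z', h₃⟩ := surjective_up_to_refinements_of_epi p₁ z
    refine ⟨W₃, π₃ ≫ π₂ ≫ π₁, inferInstance, biprod.lift z' (π₃ ≫ π₂ ≫ l), ?_⟩
    rw [biprod.lift_desc, ← Category.assoc z', ← h₃, Category.assoc π₃ z, ← h₂]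
    simp only [Preadditive.comp_sub, Category.assoc]
    abel
  · rw [ShortComplex.exact_iff_exact_up_to_refinements]
    intro W (x : W ⟶ L₁ ⊞ L') (hx : x ≫ biprod.desc (p₁ ≫ S.f) g = 0)
    let a := x ≫ biprod.fst
    let b := x ≫ biprod.snd
    have hab : a ≫ p₁ ≫ S.f + b ≫ g = 0 := by
      rw [← hx]
      conv_rhs => rw [← Category.comp_id x, ← biprod.total, Preadditive.comp_add, Preadditive.add_comp]
      simp [a, b]
    have hb : b ≫ q ≫ p₃ = 0 := by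
      rw [← hg]
      have := congrArg (· ≫ S.g) hab
      simpa using this
    obtain ⟨W₁, π₁, hπ₁, (s : W₁ ⟶ R), (h₁ : π₁ ≫ b = s ≫ r)⟩ := hr.exact_up_to_refinements b hb
    obtain ⟨W₂, π₂, hπ₂, s', h₂⟩ := surjective_up_to_refinements_of_epi q' s
    obtain ⟨W₃, π₃, hπ₃, (t : W₃ ⟶ R₁), (h₃ : π₃ ≫ (π₂ ≫ π₁ ≫ a + s' ≫ m) = t ≫ r₁)⟩ :=
      hE₁.exact_up_to_refinements (π₂ ≫ π₁ ≫ a + s' ≫ m) (by
        show (π₂ ≫ π₁ ≫ a + s' ≫ m) ≫ p₁ = 0
        rw [← cancel_mono S.f, zero_comp]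
        simp only [Preadditive.add_comp, Category.assoc]
        rw [hm', ← reassoc_of% h₂, ← reassoc_of% h₁, ← Preadditive.comp_add, ← Preadditive.comp_add, hab,
          comp_zero, comp_zero])
    refine ⟨W₃, π₃ ≫ π₂ ≫ π₁, inferInstance, biprod.lift t (-(π₃ ≫ s')), ?_⟩
    show (π₃ ≫ π₂ ≫ π₁) ≫ x = biprod.lift t (-(π₃ ≫ s')) ≫
      biprod.desc (r₁ ≫ biprod.inl) (m ≫ biprod.inl - (q' ≫ r) ≫ biprod.inr)
    apply biprod.hom_ext
    · simp only [biprod.lift_desc, Category.assoc, Preadditive.add_comp, Preadditive.sub_comp,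
        Preadditive.neg_comp, Preadditive.comp_sub, biprod.inl_fst, biprod.inr_fst, comp_zero,
        Category.comp_id, neg_zero, sub_zero]
      rw [← h₃]
      simp only [a, Preadditive.comp_add, Category.assoc]
      abel
    · simp only [biprod.lift_desc, Category.assoc, Preadditive.add_comp, Preadditive.sub_comp,
        Preadditive.neg_comp, Preadditive.comp_sub, biprod.inl_snd, biprod.inr_snd, comp_zero,
        zero_add, Category.comp_id, neg_zero]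
      rw [← reassoc_of% h₂, ← h₁]
      simp only [b, Category.assoc]
      abel

/-- Kernels, if kernels of maps between members of `P` are presented. -/
theorem pres_kernel (hl : LiftPres P) (hker : ∀ (L M : A) (f : L ⟶ M), P L → P M → Pres P (kernel f))
    {X Y : A} (a : X ⟶ Y) (hX : Pres P X) (hY : Pres P Y) : Pres P (kernel a) := by
  obtain ⟨R, L, r, p, w, hR, hL, hp, hE⟩ := hX
  obtain ⟨S, M, s, pY, wY, hS, hM, hpY, hEY⟩ := hY
  obtain ⟨N, L', n, q, g, wn, hN, hL', hq, hn, hg⟩ := hl L hL M Y pY hpY (p ≫ a)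
  obtain ⟨R', r', w', hR', hr'⟩ := exists_comp hbp hl.lift n q wn hn r p w hE hN hR
  let K := kernel (biprod.desc g (-s) : L' ⊞ S ⟶ M)
  let K₂ := kernel (biprod.desc (r' ≫ g) (-s) : R' ⊞ S ⟶ M)
  let κ : K ⟶ kernel a := kernel.lift a (kernel.ι _ ≫ biprod.fst ≫ q ≫ p) (by
    have h0 : (kernel.ι (biprod.desc g (-s) : L' ⊞ S ⟶ M)) ≫ biprod.desc g (-s) ≫ pY = 0 := by
      rw [kernel.condition_assoc, zero_comp]
    have e : (biprod.desc g (-s) : L' ⊞ S ⟶ M) ≫ pY = biprod.fst ≫ q ≫ p ≫ a := by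
      apply biprod.hom_ext'
      · simp [hg]
      · simp [wY]
    rw [e] at h0
    simpa using h0)
  let k : K₂ ⟶ K := kernel.lift _ (kernel.ι _ ≫ biprod.map r' (𝟙 S)) (by
    have e : (biprod.map r' (𝟙 S) : R' ⊞ S ⟶ L' ⊞ S) ≫ biprod.desc g (-s) = biprod.desc (r' ≫ g) (-s) := by
      apply biprod.hom_ext' <;> simp
    rw [Category.assoc, e, kernel.condition])
  have wk : k ≫ κ = 0 := by
    rw [← cancel_mono (kernel.ι a), zero_comp, Category.assoc, kernel.lift_ι, ← Category.assoc,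
      kernel.lift_ι]
    simp [w']
  haveI : Epi κ := by
    rw [epi_iff_surjective_up_to_refinements]
    intro W y
    obtain ⟨W₁, π₁, hπ₁, l, h₁⟩ := surjective_up_to_refinements_of_epi (q ≫ p) (y ≫ kernel.ι a)
    obtain ⟨W₂, π₂, hπ₂, (σ : W₂ ⟶ S), (h₂ : π₂ ≫ l ≫ g = σ ≫ s)⟩ :=
      hEY.exact_up_to_refinements (l ≫ g) (by
        show (l ≫ g) ≫ pY = 0
        rw [Category.assoc, hg, ← Category.assoc q p a, ← Category.assoc l, ← h₁, Category.assoc,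
          Category.assoc, kernel.condition, comp_zero, comp_zero])
    refine ⟨W₂, π₂ ≫ π₁, inferInstance, kernel.lift _ (biprod.lift (π₂ ≫ l) σ) (by
      rw [biprod.lift_desc, Category.assoc, h₂, Preadditive.comp_neg, add_neg_cancel]), ?_⟩
    rw [← cancel_mono (kernel.ι a), Category.assoc, Category.assoc, Category.assoc, kernel.lift_ι,
      kernel.lift_ι_assoc, biprod.lift_fst_assoc, Category.assoc, h₁]
  refine pres_coker hbp hl.lift k κ wk ?_ (hker _ _ _ (hbp _ _ hR' hS) hM).gen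
    (hker _ _ _ (hbp _ _ hL' hS) hM)
  rw [ShortComplex.exact_iff_exact_up_to_refinements]
  intro W (x : W ⟶ K) (hx : x ≫ κ = 0)
  let x' := x ≫ kernel.ι (biprod.desc g (-s) : L' ⊞ S ⟶ M)
  have hx' : (x' ≫ biprod.fst) ≫ q ≫ p = 0 := by
    have := congrArg (· ≫ kernel.ι a) hx
    simpa [κ, x'] using this
  obtain ⟨W₁, π₁, hπ₁, (t : W₁ ⟶ R'), (h₁ : π₁ ≫ x' ≫ biprod.fst = t ≫ r')⟩ :=
    hr'.exact_up_to_refinements (x' ≫ biprod.fst) hx'
  have hz : biprod.lift t (π₁ ≫ x' ≫ biprod.snd) ≫ (biprod.map r' (𝟙 S) : R' ⊞ S ⟶ L' ⊞ S) = π₁ ≫ x' := by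
    apply biprod.hom_ext
    · simp [← h₁]
    · simp
  refine ⟨W₁, π₁, hπ₁, kernel.lift _ (biprod.lift t (π₁ ≫ x' ≫ biprod.snd)) ?_, ?_⟩
  · have e : (biprod.map r' (𝟙 S) : R' ⊞ S ⟶ L' ⊞ S) ≫ biprod.desc g (-s) = biprod.desc (r' ≫ g) (-s) := by
      apply biprod.hom_ext' <;> simp
    rw [← e, ← Category.assoc, hz]
    simp [x']
  · show π₁ ≫ x = _ ≫ k
    rw [← cancel_mono (kernel.ι _), Category.assoc, Category.assoc, kernel.lift_ι, kernel.lift_ι_assoc, hz]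

end Groth.Agent.H15Site.FinPres
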