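import Groth.Agent.H15Site.FinPres.Site
import Groth.Agent.H15Site.CompactRetract.Coyoneda

/-!
# Every module is a filtered colimit of finitely presented ones
-/

set_option autoImplicit false
set_option linter.style.haveILetI false
set_option linter.unusedSectionVars false
set_option backward.isDefEq.respectTransparency false
set_option backward.isDefEq.respectTransparency.types false

universe v u

open CategoryTheory CategoryTheory.Limits Opposite

namespace Groth.Agent.H15Site.FinPres

open Groth.Agent.H16Derived.QCohD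

section Abstract

variable {A : Type u} [Category.{v} A] [Abelian A] [HasCoproducts.{v} A]
  {I J : Type v} (E : I → A) (F : J → A) (r : (∐ F) ⟶ ∐ E)

/-- The sum over a finite subset. -/
noncomputable abbrev part {I : Type v} (E : I → A) (s : Finset I) : A := ∐ fun i : s => E i.1

/-- The inclusion of a finite subsum. -/
noncomputable def pin {I : Type v} (E : I → A) (s : Finset I) : part E s ⟶ ∐ E :=
  Sigma.desc fun i => Sigma.ι E i.1

/-- Inclusions between finite subsums. -/
noncomputable def ptr {I : Type v} (E : I → A) {s s' : Finset I} (h : s ⊆ s') : part E s ⟶ part E s' :=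
  Sigma.desc fun i => Sigma.ι (fun i : s' => E i.1) ⟨i.1, h i.2⟩

open Classical in
/-- The projection to a finite subsum. -/
noncomputable def ppr {I : Type v} (E : I → A) (s : Finset I) : (∐ E) ⟶ part E s :=
  Sigma.desc fun i => if h : i ∈ s then Sigma.ι (fun i : s => E i.1) ⟨i, h⟩ else 0

lemma ι_pin {I : Type v} (E : I → A) (s : Finset I) (i : s) :
    Sigma.ι (fun i : s => E i.1) i ≫ pin E s = Sigma.ι E i.1 := Sigma.ι_desc _ _

lemma ptr_pin {I : Type v} (E : I → A) {s s' : Finset I} (h : s ⊆ s') : ptr E h ≫ pin E s' = pin E s :=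
  Sigma.hom_ext _ _ fun i => by simp [ptr, pin]

lemma ppr_pin {I : Type v} (E : I → A) (s : Finset I) : ppr E s ≫ pin E s = FinSupp.idem E s :=
  Sigma.hom_ext _ _ fun i => by
    classical
    rw [FinSupp.ι_idem]
    by_cases hi : i ∈ s <;> simp [ppr, pin, hi]

lemma mono_pin {I : Type v} (E : I → A) (s : Finset I) : Mono (pin E s) :=
  haveI := IsSplitMono.mk' (f := pin E s) ⟨ppr E s, Sigma.hom_ext _ _ fun i => by simp [ppr, pin, i.2]⟩
  inferInstance

/-- Finite pieces of a presentation. -/
structure Piece where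
  /-- generators -/
  s : Finset I
  /-- relations -/
  t : Finset J
  /-- the relations involve only the generators -/
  supp : ∀ j ∈ t, (Sigma.ι F j ≫ r) ≫ FinSupp.idem E s = Sigma.ι F j ≫ r

variable {E F r}

instance : Preorder (Piece E F r) where
  le a b := a.s ⊆ b.s ∧ a.t ⊆ b.t
  le_refl a := ⟨subset_rfl, subset_rfl⟩
  le_trans a b c h h' := ⟨h.1.trans h'.1, h.2.trans h'.2⟩

instance : Nonempty (Piece E F r) := ⟨⟨∅, ∅, fun j hj => (Finset.notMem_empty j hj).elim⟩⟩

open Classical in
instance : IsDirectedOrder (Piece E F r) :=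
  ⟨fun a b => ⟨⟨a.s ∪ b.s, a.t ∪ b.t, fun j hj => (Finset.mem_union.1 hj).elim
      (fun h => FinSupp.mono_support E Finset.subset_union_left (a.supp j h))
      (fun h => FinSupp.mono_support E Finset.subset_union_right (b.supp j h))⟩,
    ⟨Finset.subset_union_left, Finset.subset_union_left⟩, ⟨Finset.subset_union_right, Finset.subset_union_right⟩⟩⟩

/-- The finite relation map. -/
noncomputable def Piece.rel (l : Piece E F r) : part F l.t ⟶ part E l.s := pin F l.t ≫ r ≫ ppr E l.s

lemma Piece.rel_pin (l : Piece E F r) : l.rel ≫ pin E l.s = pin F l.t ≫ r := by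
  refine Sigma.hom_ext _ _ fun j => ?_
  rw [Piece.rel, Category.assoc, Category.assoc, ppr_pin, ← Category.assoc, ι_pin, ← Category.assoc,
    l.supp j.1 j.2, ← Category.assoc, ι_pin]

lemma Piece.rel_ptr {l m : Piece E F r} (h : l ≤ m) : l.rel ≫ ptr E h.1 = ptr F h.2 ≫ m.rel := by
  haveI := mono_pin E m.s
  rw [← cancel_mono (pin E m.s), Category.assoc, ptr_pin, l.rel_pin, Category.assoc, m.rel_pin,
    ← Category.assoc, ptr_pin]

/-- The diagram of finitely presented pieces. -/
noncomputable def diag : Piece E F r ⥤ A where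
  obj l := cokernel l.rel
  map {l m} h := cokernel.map l.rel m.rel (ptr F (leOfHom h).2) (ptr E (leOfHom h).1) (Piece.rel_ptr (leOfHom h))
  map_id l := coequalizer.hom_ext (by
    simp only [cokernel.π_desc, Category.comp_id]
    refine Eq.trans ?_ (Category.id_comp _)
    exact congrArg (· ≫ cokernel.π l.rel) (Sigma.hom_ext _ _ fun i => by simp [ptr]))
  map_comp {l m n} h h' := coequalizer.hom_ext (by
    simp only [cokernel.π_desc, cokernel.π_desc_assoc, Category.assoc]
    rw [← Category.assoc (ptr E _) (ptr E _)]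
    exact congrArg (· ≫ cokernel.π n.rel) (Sigma.hom_ext _ _ fun i => by simp [ptr]))

variable {X : A} (p : (∐ E) ⟶ X) (w : r ≫ p = 0)

/-- The cocone with point the presented object. -/
noncomputable def toX : (diag (E := E) (F := F) (r := r)) ⟶ (Functor.const _).obj X where
  app l := cokernel.desc l.rel (pin E l.s ≫ p) (by rw [← Category.assoc, l.rel_pin, Category.assoc, w, comp_zero])
  naturality l m h := coequalizer.hom_ext (by
    simp only [diag, cokernel.π_desc_assoc, Functor.const_obj_map, Category.comp_id, Category.assoc,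
      cokernel.π_desc]
    rw [← Category.assoc, ptr_pin]
    exact (congrArg _ (Category.comp_id p)).symm)

/-- The presented object is the colimit of the pieces. -/
theorem nonempty_isColimit [Epi p] (hE : (ShortComplex.mk r p w).Exact)
    (hfin : ∀ j (g : F j ⟶ ∐ E), ∃ s : Finset I, g ≫ FinSupp.idem E s = g) :
    Nonempty (IsColimit (Cocone.mk X (toX p w))) := by
  classical
  let one : I → Piece E F r := fun i => ⟨{i}, ∅, fun j hj => (Finset.notMem_empty j hj).elim⟩
  let g : ∀ c : Cocone (diag (E := E) (F := F) (r := r)), (∐ E) ⟶ c.pt := fun c => Sigma.desc fun i =>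
    Sigma.ι (fun k : (one i).s => E k.1) ⟨i, Finset.mem_singleton_self i⟩ ≫ cokernel.π (one i).rel ≫ c.ι.app (one i)
  have key : ∀ c l, pin E (Piece.s l) ≫ g c = cokernel.π l.rel ≫ c.ι.app l := fun c l => by
    refine Sigma.hom_ext _ _ fun i => ?_
    rw [← Category.assoc, ι_pin, Sigma.ι_desc]
    have h : one i.1 ≤ l := ⟨Finset.singleton_subset_iff.2 i.2, Finset.empty_subset _⟩
    rw [← c.w (homOfLE h)]
    simp only [diag, cokernel.π_desc_assoc, Category.assoc]
    rw [← Category.assoc]
    exact congrArg (· ≫ cokernel.π l.rel ≫ c.ι.app l) (Sigma.ι_desc _ _)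
  have hg : ∀ c, r ≫ g c = 0 := fun c => Sigma.hom_ext _ _ fun j => by
    obtain ⟨s, hs⟩ := hfin j (Sigma.ι F j ≫ r)
    let l : Piece E F r := ⟨s, {j}, fun k hk => by rw [Finset.mem_singleton.1 hk]; exact hs⟩
    rw [comp_zero, show Sigma.ι F j = Sigma.ι (fun k : l.t => F k.1) ⟨j, Finset.mem_singleton_self j⟩ ≫ pin F l.t from
      (ι_pin F l.t ⟨j, Finset.mem_singleton_self j⟩).symm, Category.assoc, ← Category.assoc (pin F l.t) r (g c), ← l.rel_pin, Category.assoc,
      key, cokernel.condition_assoc, zero_comp, comp_zero]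
  haveI : Epi (ShortComplex.mk r p w).g := ‹_›
  refine ⟨{ desc := fun c => (CokernelCofork.IsColimit.desc' hE.gIsCokernel (g c) (hg c)).1
            fac := fun c l => ?_, uniq := fun c m hm => ?_ }⟩
  · refine coequalizer.hom_ext ?_
    have h := (CokernelCofork.IsColimit.desc' hE.gIsCokernel (g c) (hg c)).2
    show cokernel.π l.rel ≫ cokernel.desc l.rel (pin E l.s ≫ p) _ ≫ _ = _
    rw [cokernel.π_desc_assoc, Category.assoc]
    exact (congrArg (pin E l.s ≫ ·) h).trans (key c l)
  · refine (cancel_epi p).1 (Eq.trans ?_ (CokernelCofork.IsColimit.desc' hE.gIsCokernel (g c) (hg c)).2.symm)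
    refine Sigma.hom_ext _ _ fun i => ?_
    have h := hm (one i)
    rw [Sigma.ι_desc, ← h]
    show _ = _ ≫ cokernel.π (one i).rel ≫ cokernel.desc (one i).rel (pin E (one i).s ≫ p) _ ≫ m
    rw [cokernel.π_desc_assoc, Category.assoc, ← Category.assoc _ (pin E (one i).s) (p ≫ m)]
    exact congrArg (· ≫ p ≫ m) (ι_pin E (one i).s ⟨i, Finset.mem_singleton_self i⟩).symm

end Abstract

end Groth.Agent.H15Site.FinPres
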