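import Groth.Agent.H15Site.FinPres.Colim

/-!
# Presentations of modules by sums of `j_! O_U`, `U` in a basis
-/

set_option autoImplicit false
set_option linter.style.haveILetI false
set_option linter.unusedSectionVars false
set_option backward.isDefEq.respectTransparency false
set_option backward.isDefEq.respectTransparency.types false

universe u

open CategoryTheory CategoryTheory.Limits Opposite

namespace Groth.Agent.H15Site.FinPres

attribute [local instance 10000] SiteInst.hasSheafifySite SiteInst.hasWeakSheafifySite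

variable {C : Type u} [SmallCategory C] {J : GrothendieckTopology C} {O : Sheaf J CommRingCat.{u}} {B : Set C}

theorem finFree_finset {I : Type u} (U : I → C) (hU : ∀ i, U i ∈ B) (s : Finset I) :
    FinFree O B (part (fun i => ModSite.freeOn O (U i)) s) :=
  ⟨Fin (Fintype.card s), inferInstance, fun k => U ((Fintype.equivFin s).symm k).1, fun _ => hU _,
    ⟨(Sigma.whiskerEquiv (g := fun i : s => ModSite.freeOn O (U i.1)) (Fintype.equivFin s).symm
      fun _ => Iso.refl _).symm⟩⟩

/-- Every module has a presentation by sums of `j_! O_U`, `U` in `B`. -/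
theorem exists_presentation
    (hB₁ : ∀ X : C, ∃ (κ : Type u) (Y : κ → C) (g : ∀ k, Y k ⟶ X), Sieve.ofArrows Y g ∈ J X ∧ ∀ k, Y k ∈ B)
    (F : ModSite.Mod O) :
    ∃ (I K : Type u) (U : I → C) (V : K → C)
      (r : (∐ fun k => ModSite.freeOn O (V k)) ⟶ ∐ fun i => ModSite.freeOn O (U i))
      (p : (∐ fun i => ModSite.freeOn O (U i)) ⟶ F) (w : r ≫ p = 0),
      (∀ i, U i ∈ B) ∧ (∀ k, V k ∈ B) ∧ Epi p ∧ (ShortComplex.mk r p w).Exact := by
  have hC : ∀ V : C, ∃ R ∈ J V, ∀ ⦃W : C⦄ (g : W ⟶ V), R g →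
      ∃ (U : C) (a : W ⟶ U) (b : U ⟶ V), U ∈ B ∧ a ≫ b = g := fun V => by
    obtain ⟨κ, Y, g, hY, hYB⟩ := hB₁ V
    refine ⟨_, hY, fun W h hh => ?_⟩
    obtain ⟨k, a, rfl⟩ := (Sieve.mem_ofArrows_iff _ _ _).1 hh
    exact ⟨Y k, a, g k, hYB k, rfl⟩
  obtain ⟨I, E, p, hE, hp⟩ := CompactFree.exists_epi_freeOn O (· ∈ B) hC F
  choose U hU hEU using hE
  obtain rfl : E = fun i => ModSite.freeOn O (U i) := funext hEU
  obtain ⟨K, G, q, hG, hq⟩ := CompactFree.exists_epi_freeOn O (· ∈ B) hC (kernel p)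
  choose V hV hGV using hG
  obtain rfl : G = fun k => ModSite.freeOn O (V k) := funext hGV
  refine ⟨I, K, U, V, q ≫ kernel.ι p, p, by simp, hU, hV, hp, ?_⟩
  rw [ShortComplex.exact_iff_exact_up_to_refinements]
  intro W (x : W ⟶ _) (hx : x ≫ p = 0)
  obtain ⟨W', π, hπ, y, hy⟩ := surjective_up_to_refinements_of_epi q (kernel.lift p x hx)
  exact ⟨W', π, hπ, y, by simpa using congrArg (· ≫ kernel.ι p) hy⟩

end Groth.Agent.H15Site.FinPres
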