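import Groth.Agent.H15Site.FinPres.Calc
import Groth.Agent.H15Site.CompactFree.Modules
import Groth.Agent.H15Site.LocPres

/-!
# Finite sums of `j_! O_U` for a class of quasi-compact objects
-/

set_option autoImplicit false
set_option linter.style.haveILetI false
set_option linter.unusedSectionVars false
set_option backward.isDefEq.respectTransparency false
set_option backward.isDefEq.respectTransparency.types false

universe u

open CategoryTheory CategoryTheory.Limits Opposite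

namespace Groth.Agent.H15Site.FinPres

open ModTensor LocPres

attribute [local instance 10000] SiteInst.hasSheafifySite SiteInst.hasWeakSheafifySite

variable {C : Type u} [SmallCategory C] {J : GrothendieckTopology C} (O : Sheaf J CommRingCat.{u})

/-- `j_! O_W ⟶ j_! O_U`. -/
noncomputable def fmap {W U : C} (b : W ⟶ U) : ModSite.freeOn O W ⟶ ModSite.freeOn O U :=
  (FreeOn.homEquiv O W _).symm
    (rs ((forg O).obj (ModSite.freeOn O U)) b.op (FreeOn.homEquiv O U _ (𝟙 _)))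

/-- Restriction is composition with `fmap`. -/
lemma homEquiv_fmap {W U : C} (b : W ⟶ U) {Z : ModSite.Mod O} (h : ModSite.freeOn O U ⟶ Z) :
    FreeOn.homEquiv O W Z (fmap O b ≫ h) = rs ((forg O).obj Z) b.op (FreeOn.homEquiv O U Z h) := by
  rw [FreeOn.homEquiv_comp, fmap, AddEquiv.apply_symm_apply]
  refine (app_rs h b.op _).trans ?_
  conv_rhs => rw [← Category.id_comp h, FreeOn.homEquiv_comp]

/-- Finite sums of `j_! O_U`, `U` in `B`. -/
def FinFree (B : Set C) (L : ModSite.Mod O) : Prop :=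
  ∃ (κ : Type) (_ : Finite κ) (U : κ → C), (∀ i, U i ∈ B) ∧ Nonempty (L ≅ ∐ fun i => ModSite.freeOn O (U i))

variable {O} {B : Set C}

theorem finFree_biprod (L M : ModSite.Mod O) (hL : FinFree O B L) (hM : FinFree O B M) :
    FinFree O B (L ⊞ M) := by
  obtain ⟨κ, _, U, hU, ⟨e⟩⟩ := hL
  obtain ⟨μ, _, V, hV, ⟨f⟩⟩ := hM
  let F : κ ⊕ μ → C := Sum.elim U V
  refine ⟨κ ⊕ μ, inferInstance, F, fun i => by cases i <;> simp [F, hU, hV], ⟨biprod.mapIso e f ≪≫
    { hom := biprod.desc (Sigma.desc fun i => Sigma.ι (fun k => ModSite.freeOn O (F k)) (Sum.inl i))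
        (Sigma.desc fun i => Sigma.ι (fun k => ModSite.freeOn O (F k)) (Sum.inr i))
      inv := Sigma.desc fun
        | Sum.inl i => Sigma.ι (fun k => ModSite.freeOn O (U k)) i ≫ biprod.inl
        | Sum.inr i => Sigma.ι (fun k => ModSite.freeOn O (V k)) i ≫ biprod.inr
      hom_inv_id := ?_
      inv_hom_id := ?_ }⟩⟩
  · refine biprod.hom_ext' _ _ (Sigma.hom_ext _ _ fun i => ?_) (Sigma.hom_ext _ _ fun i => ?_) <;> simp [F]
  · refine Sigma.hom_ext _ _ fun i => ?_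
    cases i <;> simp [F]

theorem finFree_sum {κ : Type} [Finite κ] (U : κ → C) (hU : ∀ i, U i ∈ B) :
    FinFree O B (∐ fun i => ModSite.freeOn O (U i)) :=
  ⟨κ, inferInstance, U, hU, ⟨Iso.refl _⟩⟩

theorem FinFree.exists_fin {L : ModSite.Mod O} (h : FinFree O B L) :
    ∃ (n : ℕ) (U : Fin n → C), (∀ i, U i ∈ B) ∧ Nonempty (L ≅ ∐ fun i => ModSite.freeOn O (U i)) := by
  obtain ⟨κ, _, U, hU, ⟨e⟩⟩ := h
  obtain ⟨n, ⟨f⟩⟩ := Finite.exists_equiv_fin κ
  exact ⟨n, fun j => U (f.symm j), fun _ => hU _,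
    ⟨e ≪≫ (Sigma.whiskerEquiv (g := fun i => ModSite.freeOn O (U i)) f.symm fun _ => Iso.refl _).symm⟩⟩

/-- Presented objects, in the explicit form. -/
theorem pres_iff (X : ModSite.Mod O) :
    Pres (FinFree O B) X ↔ ∃ (m' n' : ℕ) (V' : Fin m' → C) (U' : Fin n' → C)
      (ψ : (∐ fun j => ModSite.freeOn O (V' j)) ⟶ ∐ fun i => ModSite.freeOn O (U' i)),
      (∀ j, V' j ∈ B) ∧ (∀ i, U' i ∈ B) ∧ Nonempty (X ≅ cokernel ψ) := by
  constructor
  · intro h
    obtain ⟨R, L, r, hR, hL, ⟨e⟩⟩ := h.exists_iso_cokernel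
    obtain ⟨m, V, hV, ⟨f⟩⟩ := hR.exists_fin
    obtain ⟨n, U, hU, ⟨g⟩⟩ := hL.exists_fin
    exact ⟨m, n, V, U, f.inv ≫ r ≫ g.hom, hV, hU, ⟨e ≪≫ cokernel.mapIso _ _ f g (by simp)⟩⟩
  · rintro ⟨m, n, V, U, ψ, hV, hU, ⟨e⟩⟩
    exact pres_of_iso_cokernel ψ (finFree_sum V hV) (finFree_sum U hU) e

variable (hB₁ : ∀ X : C, ∃ (κ : Type u) (Y : κ → C) (g : ∀ k, Y k ⟶ X), Sieve.ofArrows Y g ∈ J X ∧ ∀ k, Y k ∈ B)

include hB₁ in
/-- Finite coverings by members of `B` refining a covering sieve. -/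
theorem exists_cover {U : C} (hU : CoprodSect.QcObj J U) (R : Sieve U) (hR : R ∈ J U) :
    ∃ (n : ℕ) (W : Fin n → C) (g : ∀ k, W k ⟶ U),
      (∀ k, R (g k)) ∧ (∀ k, W k ∈ B) ∧ Sieve.ofArrows W g ∈ J U := by
  choose κ Y h hY hYB using hB₁
  let R' : Sieve U := Sieve.bind R.arrows fun V a _ => Sieve.ofArrows (Y V) (h V)
  obtain ⟨μ, _, Z, z, hz, hcov⟩ := hU R' (J.bind_covering hR fun V a _ => hY V)
  choose V b a ha hb hab using hz
  choose k c hc using fun i => (Sieve.mem_ofArrows_iff _ _ _).1 (hb i)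
  obtain ⟨n, ⟨f⟩⟩ := Finite.exists_equiv_fin μ
  refine ⟨n, fun j => Y _ (k (f.symm j)), fun j => h _ (k (f.symm j)) ≫ a (f.symm j),
    fun j => R.downward_closed (ha _) _, fun j => hYB _ _, J.superset_covering ?_ hcov⟩
  intro T t ht
  obtain ⟨i, s, rfl⟩ := (Sieve.mem_ofArrows_iff _ _ _).1 ht
  obtain ⟨j, rfl⟩ := f.symm.surjective i
  rw [← hab, hc, Category.assoc, ← Category.assoc]
  exact (Sieve.mem_ofArrows_iff _ _ _).2 ⟨j, _, rfl⟩

variable (hB₂ : ∀ U ∈ B, CoprodSect.QcObj J U)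

include hB₁ hB₂

/-- The common construction for both lifting properties. -/
theorem exists_lift_cover (L : ModSite.Mod O) (hL : FinFree O B L) (X Y : ModSite.Mod O) (p : X ⟶ Y)
    (hp : Epi p) (f : L ⟶ Y) :
    ∃ (κ : Type) (_ : Finite κ) (U : κ → C) (e : L ≅ ∐ fun i => ModSite.freeOn O (U i))
      (n : κ → ℕ) (W : ∀ i, Fin (n i) → C) (c : ∀ i k, W i k ⟶ U i)
      (g : (∐ fun s : Σ i, Fin (n i) => ModSite.freeOn O (W s.1 s.2)) ⟶ X),
      (∀ i, U i ∈ B) ∧ (∀ i k, W i k ∈ B) ∧ (∀ i, Sieve.ofArrows (W i) (c i) ∈ J (U i)) ∧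
      Epi (Sigma.desc fun s : Σ i, Fin (n i) => fmap O (c s.1 s.2) ≫
        Sigma.ι (fun i => ModSite.freeOn O (U i)) s.1) ∧
      g ≫ p = (Sigma.desc fun s : Σ i, Fin (n i) => fmap O (c s.1 s.2) ≫
        Sigma.ι (fun i => ModSite.freeOn O (U i)) s.1) ≫ e.inv ≫ f := by
  obtain ⟨κ, hκ, U, hU, ⟨e⟩⟩ := hL
  let F : ∀ i, ModSite.freeOn O (U i) ⟶ Y := fun i =>
    Sigma.ι (fun i => ModSite.freeOn O (U i)) i ≫ e.inv ≫ f
  choose R hR hR' using fun i => (LocGen.epi_iff_locSurj p).1 hp (U i) (FreeOn.homEquiv O (U i) Y (F i))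
  choose n W c hc hW hcov using fun i => exists_cover hB₁ (hB₂ _ (hU i)) (R i) (hR i)
  choose z hz using fun i k => hR' i (c i k) (hc i k)
  refine ⟨κ, hκ, U, e, n, W, c, Sigma.desc fun s => (FreeOn.homEquiv O _ X).symm (z s.1 s.2), hU, hW, hcov,
    Preadditive.epi_of_cancel_zero _ fun {Z} h hh => ?_, Sigma.hom_ext _ _ fun s => ?_⟩
  · refine Sigma.hom_ext _ _ fun i => ?_
    rw [comp_zero]
    refine (FreeOn.homEquiv O (U i) Z).injective ?_
    refine separated_forg Z (X := op (U i)) _ (hcov i) _ _ fun T t ht => ?_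
    obtain ⟨k, b, rfl⟩ := (Sieve.mem_ofArrows_iff _ _ _).1 ht
    rw [op_comp, ← rs_rs, ← rs_rs]
    refine congrArg (rs _ b.op) ?_
    rw [← homEquiv_fmap, ← homEquiv_fmap, comp_zero]
    have := Sigma.ι (fun s : Σ i, Fin (n i) => ModSite.freeOn O (W s.1 s.2)) ⟨i, k⟩ ≫= hh
    rw [comp_zero, Sigma.ι_desc_assoc] at this
    rw [Category.assoc] at this
    rw [this]
  · obtain ⟨i, k⟩ := s
    rw [Sigma.ι_desc_assoc, Sigma.ι_desc_assoc, Category.assoc]
    refine (FreeOn.homEquiv O (W i k) Y).injective ?_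
    rw [FreeOn.homEquiv_comp, AddEquiv.apply_symm_apply, homEquiv_fmap]
    exact hz i k

theorem lift_finFree : Lift (FinFree O B) := fun L hL X Y p hp f => by
  obtain ⟨κ, _, U, e, n, W, c, g, hU, hW, -, hq, hg⟩ := exists_lift_cover hB₁ hB₂ L hL X Y p hp f
  haveI := hq
  exact ⟨_, _ ≫ e.inv, g, finFree_sum (fun s : Σ i, Fin (n i) => W s.1 s.2) (fun s => hW _ _),
    epi_comp _ _, by rw [Category.assoc]; exact hg⟩

variable [HasPullbacks C]
  (hB₃ : ∀ (U U₁ U₂ : C) (f₁ : U₁ ⟶ U) (f₂ : U₂ ⟶ U), U ∈ B → U₁ ∈ B → U₂ ∈ B →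
      CoprodSect.QcObj J (pullback f₁ f₂))

include hB₃

set_option maxHeartbeats 1600000 in
/-- The kernel of a covering map is generated by the overlaps. -/
theorem exists_exact {κ : Type} [Finite κ] (U : κ → C) (n : κ → ℕ) (W : ∀ i, Fin (n i) → C)
    (c : ∀ i k, W i k ⟶ U i) (hU : ∀ i, U i ∈ B) (hW : ∀ i k, W i k ∈ B)
    (hcov : ∀ i, Sieve.ofArrows (W i) (c i) ∈ J (U i))
    (q : (∐ fun s : Σ i, Fin (n i) => ModSite.freeOn O (W s.1 s.2)) ⟶ ∐ fun i => ModSite.freeOn O (U i))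
    (hq : ∀ i k, Sigma.ι (fun s : Σ i, Fin (n i) => ModSite.freeOn O (W s.1 s.2)) ⟨i, k⟩ ≫ q =
      fmap O (c i k) ≫ Sigma.ι (fun i => ModSite.freeOn O (U i)) i) [Epi q] :
    ∃ (N : ModSite.Mod O) (δ : N ⟶ _) (w : δ ≫ q = 0),
      FinFree O B N ∧ (ShortComplex.mk δ q w).Exact := by
  choose m T t _ hT hTcov using fun (i : κ) (k l : Fin (n i)) =>
    exists_cover hB₁ (hB₃ _ _ _ (c i k) (c i l) (hU i) (hW i k) (hW i l)) ⊤ (J.top_mem _)
  let WF : (Σ i, Fin (n i)) → ModSite.Mod O := fun s => ModSite.freeOn O (W s.1 s.2)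
  let τ : (Σ i, Σ k, Σ l, Fin (m i k l)) → C := fun s => T s.1 s.2.1 s.2.2.1 s.2.2.2
  let δ : (∐ fun s => ModSite.freeOn O (τ s)) ⟶ ∐ WF := Sigma.desc fun s =>
    fmap O (t s.1 s.2.1 s.2.2.1 s.2.2.2 ≫ pullback.fst _ _) ≫ Sigma.ι WF ⟨s.1, s.2.1⟩ -
      fmap O (t s.1 s.2.1 s.2.2.1 s.2.2.2 ≫ pullback.snd _ _) ≫ Sigma.ι WF ⟨s.1, s.2.2.1⟩
  have hδ : ∀ i k l j, Sigma.ι (fun s => ModSite.freeOn O (τ s)) ⟨i, k, l, j⟩ ≫ δ =
      fmap O (t i k l j ≫ pullback.fst _ _) ≫ Sigma.ι WF ⟨i, k⟩ -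
        fmap O (t i k l j ≫ pullback.snd _ _) ≫ Sigma.ι WF ⟨i, l⟩ := fun i k l j => Sigma.ι_desc _ _
  have w : δ ≫ q = 0 := Sigma.hom_ext _ _ fun ⟨i, k, l, j⟩ => by
    rw [← Category.assoc, hδ, Preadditive.sub_comp, Category.assoc, Category.assoc, hq, hq, comp_zero]
    refine (FreeOn.homEquiv O _ _).injective ?_
    rw [map_sub, homEquiv_fmap, homEquiv_fmap, homEquiv_fmap, homEquiv_fmap, rs_rs, rs_rs, ← op_comp,
      ← op_comp, Category.assoc, Category.assoc, pullback.condition, sub_self, map_zero]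
  refine ⟨_, δ, w, finFree_sum τ (fun s => hT _ _ _ _), ShortComplex.exact_of_g_is_cokernel _ ?_⟩
  refine CokernelCofork.IsColimit.ofπ' q w fun {Z} h hh => ?_
  have hs : ∀ i, ∃ y : ((forg O).obj Z).obj (op (U i)), ∀ k, rs ((forg O).obj Z) (c i k).op y =
      FreeOn.homEquiv O (W i k) Z (Sigma.ι WF ⟨i, k⟩ ≫ h) := fun i => by
    let x : ∀ k, ((forg O).obj Z).obj (op (W i k)) := fun k =>
      FreeOn.homEquiv O (W i k) Z (Sigma.ι WF ⟨i, k⟩ ≫ h)
    have hsh := ((isSheaf_iff_isSheaf_of_type J _).1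
      ((sheafCompose J (CategoryTheory.forget AddCommGrpCat.{u})).obj (ModSite.toAb Z)).2) _ (hcov i)
    have hsh' : Presieve.IsSheafFor ((ModSite.toAb Z).obj ⋙ CategoryTheory.forget AddCommGrpCat.{u})
        (Presieve.ofArrows (W i) (c i)) := (Presieve.isSheafFor_iff_generate _).2 hsh
    obtain ⟨y, hy, -⟩ := (Presieve.isSheafFor_arrows_iff _ _).1 hsh' x fun k l V a b hab => by
      show rs ((forg O).obj Z) a.op (x k) = rs ((forg O).obj Z) b.op (x l)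
      rw [← pullback.lift_fst a b hab, op_comp, ← rs_rs]
      conv_rhs => rw [← pullback.lift_snd a b hab, op_comp, ← rs_rs]
      refine congrArg (rs _ _) ?_
      refine separated_forg Z (X := op (pullback (c i k) (c i l))) _ (hTcov i k l) _ _ fun V' v hv => ?_
      obtain ⟨j, v', rfl⟩ := (Sieve.mem_ofArrows_iff _ _ _).1 hv
      rw [op_comp, ← rs_rs, ← rs_rs]
      refine congrArg (rs _ v'.op) ?_
      have e0 := Sigma.ι (fun s => ModSite.freeOn O (τ s)) ⟨i, k, l, j⟩ ≫= hh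
      rw [comp_zero, ← Category.assoc, hδ, Preadditive.sub_comp, Category.assoc, Category.assoc,
        sub_eq_zero] at e0
      have e1 := congrArg (FreeOn.homEquiv O _ Z) e0
      rw [homEquiv_fmap, homEquiv_fmap, op_comp, op_comp, ← rs_rs, ← rs_rs] at e1
      exact e1
    exact ⟨y, hy⟩
  choose y hy using hs
  refine ⟨Sigma.desc fun i => (FreeOn.homEquiv O (U i) Z).symm (y i), Sigma.hom_ext _ _ fun ⟨i, k⟩ => ?_⟩
  rw [← Category.assoc, hq, Category.assoc, Sigma.ι_desc]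
  refine (FreeOn.homEquiv O _ Z).injective ?_
  rw [homEquiv_fmap, AddEquiv.apply_symm_apply]
  exact hy i k

theorem liftPres_finFree : LiftPres (FinFree O B) := fun L hL X Y p hp f => by
  obtain ⟨κ, _, U, e, n, W, c, g, hU, hW, hcov, hq, hg⟩ := exists_lift_cover hB₁ hB₂ L hL X Y p hp f
  haveI := hq
  obtain ⟨N, δ, w, hN, hex⟩ := exists_exact hB₁ hB₂ hB₃ U n W c hU hW hcov
    (Sigma.desc fun s : Σ i, Fin (n i) => fmap O (c s.1 s.2) ≫ Sigma.ι (fun i => ModSite.freeOn O (U i)) s.1)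
    (fun i k => Sigma.ι_desc _ _)
  let q := Sigma.desc fun s : Σ i, Fin (n i) => fmap O (c s.1 s.2) ≫ Sigma.ι (fun i => ModSite.freeOn O (U i)) s.1
  have w' : δ ≫ q ≫ e.inv = 0 := by rw [← Category.assoc, w, zero_comp]
  let i₀ : ShortComplex.mk δ q w ≅ ShortComplex.mk δ (q ≫ e.inv) w' :=
    ShortComplex.isoMk (Iso.refl _) (Iso.refl _) e.symm (by simp) (by simp)
  exact ⟨N, _, δ, q ≫ e.inv, g, w', hN,
    finFree_sum (fun s : Σ i, Fin (n i) => W s.1 s.2) (fun s => hW _ _), epi_comp _ _,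
    ShortComplex.exact_of_iso i₀ hex, by rw [Category.assoc]; exact hg⟩

end Groth.Agent.H15Site.FinPres
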